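import Cfsg.Agent.Lib.Helper6.TC13
import Cfsg.Agent.Lib.Helper6.TCD.Fi23a.Par
import Cfsg.Agent.Lib.Helper6.TCD.Fi23T.QT
set_option autoImplicit false
set_option maxRecDepth 1000000
set_option Elab.async false
open Cfsg.Agent.Lib.Helper6.TC
namespace Cfsg.Agent.Lib.Helper6.TCD.Fi23T
open Cfsg.Agent.Lib.Helper6.TCD.Fi23a
noncomputable def TW (p : Nat) : Nat := P7 (P6 (P5 (P4 (P3 (P2 (P1 (P8 (P3 (P2 (P4 (P3 (P5 (P4 (P6 (P5 (P7 (P6 (P8 (P3 (P2 (P4 (P3 (P5 (P4 (P8 (P3 (P2 (P1 (P2 (P3 (P8 (P4 (P5 (P3 (P4 (P2 (P3 (P8 (P6 (P7 (P5 (P6 (P4 (P5 (P3 (P4 (P2 (P3 (P8 (P1 (P2 (P3 (P4 (P5 (P6 (P7 p))))))))))))))))))))))))))))))))))))))))))))))))))))))))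
noncomputable def CL0 (p : Nat) : Nat := QT (P0 p)
noncomputable def CR0 (p : Nat) : Nat := P0 (QT p)
noncomputable def CL1 (p : Nat) : Nat := QT (P1 p)
noncomputable def CR1 (p : Nat) : Nat := P1 (QT p)
noncomputable def CL2 (p : Nat) : Nat := QT (P2 p)
noncomputable def CR2 (p : Nat) : Nat := P2 (QT p)
noncomputable def CL3 (p : Nat) : Nat := QT (P3 p)
noncomputable def CR3 (p : Nat) : Nat := P3 (QT p)
noncomputable def CL4 (p : Nat) : Nat := QT (P4 p)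
noncomputable def CR4 (p : Nat) : Nat := P4 (QT p)
noncomputable def CL5 (p : Nat) : Nat := QT (P5 p)
noncomputable def CR5 (p : Nat) : Nat := P5 (QT p)
noncomputable def CL6 (p : Nat) : Nat := QT (P6 p)
noncomputable def CR6 (p : Nat) : Nat := P6 (QT p)
noncomputable def CL8 (p : Nat) : Nat := QT (P8 p)
noncomputable def CR8 (p : Nat) : Nat := P8 (QT p)
noncomputable def CL9 (p : Nat) : Nat := QT (P9 p)
noncomputable def CR9 (p : Nat) : Nat := P9 (QT p)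
noncomputable def ZJ (p : Nat) : Nat := P7 (QT p)
noncomputable def ZJ3 (p : Nat) : Nat := ZJ (ZJ (ZJ p))
end Cfsg.Agent.Lib.Helper6.TCD.Fi23T
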