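import Cfsg.Agent.Lib.Helper6.TCD.Fi23T.Ta0
import Cfsg.Agent.Lib.Helper6.TCD.Fi23T.Ta1
import Cfsg.Agent.Lib.Helper6.TCD.Fi23T.Ta2
import Cfsg.Agent.Lib.Helper6.TCD.Fi23T.Ta3
import Cfsg.Agent.Lib.Helper6.TCD.Fi23T.Ta4
import Cfsg.Agent.Lib.Helper6.TCD.Fi23T.Ta5
import Cfsg.Agent.Lib.Helper6.TCD.Fi23T.Ta6
import Cfsg.Agent.Lib.Helper6.TCD.Fi23T.Ta7
import Cfsg.Agent.Lib.Helper6.TCD.Fi23T.Tc0x0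
import Cfsg.Agent.Lib.Helper6.TCD.Fi23T.Tc1x0
import Cfsg.Agent.Lib.Helper6.TCD.Fi23T.Tc2x0
import Cfsg.Agent.Lib.Helper6.TCD.Fi23T.Tc3x0
import Cfsg.Agent.Lib.Helper6.TCD.Fi23T.Tc4x0
import Cfsg.Agent.Lib.Helper6.TCD.Fi23T.Tc5x0
import Cfsg.Agent.Lib.Helper6.TCD.Fi23T.Tc6x0
import Cfsg.Agent.Lib.Helper6.TCD.Fi23T.Tc8x0
import Cfsg.Agent.Lib.Helper6.TCD.Fi23T.Tc9x0
import Cfsg.Agent.Lib.Helper6.TCD.Fi23T.Tj0
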